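import Cfsg.Agent.H652.HT.Cl
import Cfsg.Agent.H464.ExtQU

/-!
# S4933, own characteristic: `PSU_n` and `PSL_n`, `n ≥ 5`, have `P'' ≠ 1` (helper652)

* `ddc_two` : Hermitian spaces with a hyperbolic frame of rank 2 and a nonsingular vector in the complement;
* `dd_psu`, `dd_psl`.
-/

set_option autoImplicit false
set_option linter.unusedSectionVars false

namespace Cfsg.Agent.H652.HT

open Cfsg Subgroup Module
open scoped commutatorElement
open Cfsg.Agent.H720.HT (DD)
open Cfsg.Agent.H477.HC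

universe u v w

section form

open Cfsg.Agent.H477.HC.CForm

variable {K : Type u} [Field K] {V : Type v} [AddCommGroup V] [Module K V] {F : CForm K V}

/-- a root element lies in a `p`-subgroup -/
theorem exists_pGroup_root [FiniteDimensional K V] [Nontrivial V] {p : ℕ} [Fact p.Prime] [CharP K p] {c b : V}
    (hc : F.Sing c) (hb : F.Sing b) (hcb : F.B c b = 0) {g : F.iso} (hg : IsR F g c b) :
    ∃ Q : Subgroup F.iso, IsPGroup p Q ∧ g ∈ Q := by
  have hbc := F.B_eq_zero hcb
  let Vs : ℕ → Submodule K V := fun i => match i with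
    | 0 => ⊤
    | 1 => Submodule.span K {c, b}
    | _ => ⊥
  have hV : ∀ i, Vs (i + 1) ≤ Vs i := fun i => match i with
    | 0 => le_top
    | 1 => bot_le
    | (_ + 2) => le_refl _
  refine ⟨(flagU Vs hV).comap F.iso.subtype,
    (isPGroup_flagU (n := 2) rfl rfl).comap_of_injective _ F.iso.subtype_injective, ?_⟩
  have hval : ∀ v, (g : V ≃ₗ[K] V) v - v = F.B v b • c - (F.ε⁻¹ * F.B v c) • b := fun v => by
    rw [hg]; abel
  refine mem_flagU (hV := hV) fun i v hv => ?_
  change (g : V ≃ₗ[K] V) v - v ∈ _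
  rw [hval]
  match i with
  | 0 =>
    exact sub_mem (Submodule.smul_mem _ _ (Submodule.subset_span (by simp)))
      (Submodule.smul_mem _ _ (Submodule.subset_span (by simp)))
  | 1 =>
    have h1 : Submodule.span K {c, b} ≤ LinearMap.ker (F.lf b) := by
      apply span_le_ker
      rintro x (rfl | rfl)
      · exact hcb
      · exact hb.2
    have h2 : Submodule.span K {c, b} ≤ LinearMap.ker (F.lf c) := by
      apply span_le_ker
      rintro x (rfl | rfl)
      · exact hc.2
      · exact hbc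
    rw [mem_kerlf.1 (h1 hv), mem_kerlf.1 (h2 hv)]
    simp
  | (n + 2) =>
    have : v = 0 := hv
    rw [this]
    simp

/-- the flag of a frame of rank 2 -/
def frameFlag2 (F : CForm K V) (e : Fin 2 → V) : ℕ → Submodule K V
  | 0 => ⊤
  | 1 => LinearMap.ker (F.lf (e 0))
  | 2 => LinearMap.ker (F.lf (e 0)) ⊓ LinearMap.ker (F.lf (e 1))
  | 3 => Submodule.span K {e 0, e 1}
  | 4 => Submodule.span K {e 0}
  | _ => ⊥

variable {e f : Fin 2 → V}

theorem frameFlag2_anti (hee : ∀ i l, F.B (e i) (e l) = 0) : ∀ i, frameFlag2 F e (i + 1) ≤ frameFlag2 F e i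
  | 0 => le_top
  | 1 => inf_le_left
  | 2 => by
    show Submodule.span K {e 0, e 1} ≤ _
    refine le_inf ?_ ?_ <;>
    · apply span_le_ker
      rintro x (rfl | rfl) <;> exact hee _ _
  | 3 => by
    show Submodule.span K {e 0} ≤ Submodule.span K {e 0, e 1}
    apply Submodule.span_mono
    rintro x rfl
    simp
  | 4 => bot_le
  | (n + 5) => le_refl _

theorem ddc_two [FiniteDimensional K V] {p : ℕ} [Fact p.Prime] [CharP K p] (hε : F.ε = 1)
    (hee : ∀ i l, F.B (e i) (e l) = 0) (hff : ∀ i l, F.B (f i) (f l) = 0)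
    (hef : ∀ i l, F.B (e i) (f l) = if i = l then 1 else 0) (hQe : ∀ i, F.Q (e i) = 0) (hQf : ∀ i, F.Q (f i) = 0)
    {w : V} (hwe : ∀ i, F.B w (e i) = 0) (hwf : ∀ i, F.B w (f i) = 0) (hww : F.B w w ≠ 0) {l : K} (hl : F.σ l ≠ l)
    (hS : ∀ l : K, ∃ s : K, (s + F.ε⁻¹ * F.σ s + F.ε⁻¹ * F.B (l • w) (l • w) = 0) ∧
      ∀ x, x * F.σ x * F.Q (l • w) + F.T (F.σ s * (x * F.σ x)) = 0)
    (N : Subgroup F.iso) (hN : ∀ Q : Subgroup F.iso, IsPGroup p Q → Q ≤ N) : DDCN p F.iso N := by
  have h01 : (0 : Fin 2) ≠ 1 := by decide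
  have hfe : ∀ i l, F.B (f i) (e l) = if i = l then 1 else 0 := by
    intro i l
    rw [F.B_symm, hef, hε]
    by_cases h : l = i
    · rw [if_pos h, if_pos h.symm, map_one, mul_one]
    · rw [if_neg h, if_neg (Ne.symm h), map_zero, mul_zero]
  have hew : ∀ i, F.B (e i) w = 0 := fun i => F.B_eq_zero (hwe i)
  have hfw : ∀ i, F.B (f i) w = 0 := fun i => F.B_eq_zero (hwf i)
  have he : ∀ i, F.Sing (e i) := fun i => ⟨hQe i, hee i i⟩
  have hf : ∀ i, F.Sing (f i) := fun i => ⟨hQf i, hff i i⟩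
  have hne1 : e 1 ≠ 0 := by
    intro h
    have := hef 1 1
    rw [h, F.B_zero_left, if_pos rfl] at this
    exact zero_ne_one this
  have : Nontrivial V := ⟨e 1, 0, hne1⟩
  obtain ⟨a, X01⟩ := F.exists_root (he 0) (hf 1) (by rw [hef, if_neg h01])
  obtain ⟨r, X10⟩ := F.exists_root (he 1) (hf 0) (by rw [hef, if_neg h01.symm])
  change IsR F a (e 0) (f 1) at X01
  change IsR F r (e 1) (f 0) at X10
  have hlw : ∀ l : K, F.B (l • w) (e 1) = 0 := fun l => by rw [F.B_smul_left, hwe, mul_zero]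
  -- the elements `R`
  have key : ∀ l : K, ∃ (s : K) (S R : F.iso), IsS F S (e 1) (l • w) s ∧ R = ⁅a, S⁆ ∧
      (R : V ≃ₗ[K] V) (f 0) = f 0 + l • w + s • (e 0 + e 1) ∧
      (R : V ≃ₗ[K] V) w = w - (F.σ l * F.B w w) • e 0 ∧ ∀ i, (R : V ≃ₗ[K] V) (e i) = e i := by
    intro l
    obtain ⟨s, h1, h2⟩ := hS l
    obtain ⟨S, hSS⟩ := exists_siegel (he 1) (hlw l) h1 h2
    have hT := hSS.conj a
    rw [X01, X01, hef, if_pos rfl, hee, F.B_smul_left, F.B_smul_left, hwf, hwe] at hT
    simp only [one_smul, mul_zero, zero_smul, sub_zero, add_zero] at hT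
    have hinv : ∀ {x y : V}, (S : V ≃ₗ[K] V) x = y → ((S⁻¹ : F.iso) : V ≃ₗ[K] V) y = x := by
      intro x y h
      rw [← h]
      exact inv_apply' _ _
    have se : ∀ i, (S : V ≃ₗ[K] V) (e i) = e i := by
      intro i
      rw [hSS, hee, F.B_smul_right, hew]; simp
    have sf : (S : V ≃ₗ[K] V) (f 0) = f 0 := by
      rw [hSS, hfe, if_neg h01, F.B_smul_right, hfw]; simp
    have sw : (S : V ≃ₗ[K] V) (w + (F.σ l * F.B w w) • e 1) = w := by
      rw [map_add, map_smul, se, hSS, hwe, F.B_smul_right, hε]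
      simp
    refine ⟨s, S, ⁅a, S⁆, hSS, rfl, ?_, ?_, fun i => ?_⟩
    · rw [commutatorElement_def, mul_apply', hinv sf, hT, F.B_smul_right, hfw, F.B_add_right, hfe, hfe, if_pos rfl,
        if_neg h01]
      simp only [mul_zero, zero_smul, sub_zero, zero_add, one_smul, mul_one]
      rw [add_comm (e 1) (e 0)]
    · rw [commutatorElement_def, mul_apply', hinv sw, hT]
      simp only [F.B_add_left, F.B_add_right, F.B_smul_left, F.B_smul_right, hwe, hee, hew, hε]
      module
    · rw [commutatorElement_def, mul_apply', hinv (se i), hT]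
      simp only [F.B_add_right, F.B_smul_right, hee, hew]
      simp
  obtain ⟨s, S, R, hS1, hR, rf, rw', re⟩ := key l
  obtain ⟨s', S', R', hS1', hR', rf', rw'', re'⟩ := key 1
  obtain ⟨z, hz⟩ : ∃ z, z = ⁅R, R'⁆ := ⟨_, rfl⟩
  have hzR : z * (R' * R) = R * R' := by
    rw [hz, commutatorElement_def]; group
  have hinv : ∀ {g : F.iso} {x : V}, (g : V ≃ₗ[K] V) x = x → ((g⁻¹ : F.iso) : V ≃ₗ[K] V) x = x := by
    intro g x h
    conv_lhs => rw [← h]
    exact inv_apply' _ _
  have ze : ∀ i, (z : V ≃ₗ[K] V) (e i) = e i := by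
    intro i
    rw [hz, commutatorElement_def, mul_apply', mul_apply', mul_apply', hinv (re' i), hinv (re i), re' i, re i]
  obtain ⟨y, hy⟩ : ∃ y, y = (R' : V ≃ₗ[K] V) ((R : V ≃ₗ[K] V) (f 0)) := ⟨_, rfl⟩
  have hy' : y = f 0 + (1 + l) • w + (s + s' - l * F.B w w) • e 0 + (s + s') • e 1 := by
    rw [hy, rf]
    simp only [map_add, map_smul, rf', rw'', re', map_one, one_mul]
    module
  have zy : (z : V ≃ₗ[K] V) y = y + ((l - F.σ l) * F.B w w) • e 0 := by
    have h1 := congrArg (fun g : F.iso => (g : V ≃ₗ[K] V) (f 0)) hzR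
    simp only [mul_apply'] at h1
    rw [← hy, rf'] at h1
    simp only [map_add, map_smul, rf, rw', re] at h1
    rw [h1, hy']
    module
  have hnc : r * z ≠ z * r := by
    intro h
    have h3 := congrArg (fun g : F.iso => (g : V ≃ₗ[K] V) y) h
    simp only [mul_apply'] at h3
    have re0 : (r : V ≃ₗ[K] V) (e 0) = e 0 + e 1 := by
      rw [X10, hef, if_pos rfl, hee]; simp
    have re1 : (r : V ≃ₗ[K] V) (e 1) = e 1 := by
      rw [X10, hef, if_neg h01.symm, hee]; simp
    have rf0 : (r : V ≃ₗ[K] V) (f 0) = f 0 := by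
      rw [X10, hff, hfe, if_neg h01]; simp
    have rw0 : (r : V ≃ₗ[K] V) w = w := by
      rw [X10, hwf, hwe]; simp
    have ry : (r : V ≃ₗ[K] V) y = y + (s + s' - l * F.B w w) • e 1 := by
      rw [hy']
      simp only [map_add, map_smul, re0, re1, rf0, rw0]
      module
    rw [zy, map_add, map_smul, re0, ry, map_add, map_smul, ze, zy] at h3
    have h5 : ((l - F.σ l) * F.B w w) • e 1 = 0 := by
      have h6 : (y + (s + s' - l * F.B w w) • e 1 + ((l - F.σ l) * F.B w w) • (e 0 + e 1)) -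
          (y + ((l - F.σ l) * F.B w w) • e 0 + (s + s' - l * F.B w w) • e 1) = ((l - F.σ l) * F.B w w) • e 1 := by
        module
      rw [← h6, h3, sub_self]
    rcases smul_eq_zero.1 h5 with h6 | h6
    · exact (mul_ne_zero (sub_ne_zero.2 (Ne.symm hl)) hww) h6
    · exact hne1 h6
  -- the `p`-group
  have anti : Antitone (frameFlag2 F e) := antitone_nat_of_succ_le (frameFlag2_anti hee)
  obtain ⟨Q, hQdef⟩ : ∃ Q, Q = (flagU (frameFlag2 F e) (frameFlag2_anti hee)).comap F.iso.subtype := ⟨_, rfl⟩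
  have hQ : IsPGroup p Q := by
    rw [hQdef]
    exact (isPGroup_flagU rfl (n := 5) rfl).comap_of_injective _ F.iso.subtype_injective
  have ma : a ∈ Q := by
    rw [hQdef]
    refine mem_flagU (hV := frameFlag2_anti hee) fun i v hv => ?_
    change (a : V ≃ₗ[K] V) v - v ∈ _
    have e4 : e 0 ∈ frameFlag2 F e 4 := Submodule.subset_span rfl
    rcases Nat.eq_zero_or_pos i with rfl | hi
    · rw [X01]
      apply mem_kerlf.2
      simp only [F.B_sub_left, F.B_add_left, F.B_smul_left, hee, hfe, if_neg h01.symm, mul_zero, add_zero, sub_zero, sub_self]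
    · have hv1 : F.B v (e 0) = 0 := mem_kerlf.1 (anti hi hv)
      have hval : (a : V ≃ₗ[K] V) v - v = F.B v (f 1) • e 0 := by
        rw [X01, hv1]; simp
      rw [hval]
      rcases Nat.lt_or_ge i 4 with hi6 | hi6
      · exact Submodule.smul_mem _ _ (anti hi6 e4)
      · have h5 : Submodule.span K {e 0} ≤ LinearMap.ker (F.lf (f 1)) := by
          apply span_le_ker
          rintro x rfl
          rw [hef, if_neg h01]
        have h6 : F.B v (f 1) = 0 := mem_kerlf.1 (h5 (anti hi6 hv))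
        rw [h6, zero_smul]
        exact zero_mem _
  have mS : ∀ {g : F.iso} {l s : K}, IsS F g (e 1) (l • w) s → g ∈ Q := by
    intro g l s hg
    rw [hQdef]
    have e3 : e 1 ∈ frameFlag2 F e 3 := Submodule.subset_span (by simp)
    have w2 : l • w ∈ frameFlag2 F e 2 := Submodule.smul_mem _ _ ⟨mem_kerlf.2 (hwe 0), mem_kerlf.2 (hwe 1)⟩
    have hval : ∀ v, (g : V ≃ₗ[K] V) v - v = F.B v (e 1) • (l • w) + (s * F.B v (e 1) - F.ε⁻¹ * F.B v (l • w)) • e 1 := by
      intro v
      rw [hg]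
      module
    refine mem_flagU (hV := frameFlag2_anti hee) fun i v hv => ?_
    change (g : V ≃ₗ[K] V) v - v ∈ _
    rw [hval]
    rcases Nat.lt_or_ge i 2 with hi | hi
    · refine anti (show i + 1 ≤ 2 by omega) ?_
      exact add_mem (Submodule.smul_mem _ _ w2) (Submodule.smul_mem _ _ (anti (by omega) e3))
    · have hv1 : F.B v (e 1) = 0 := mem_kerlf.1 (anti hi hv).2
      rw [hv1, zero_smul, zero_add, mul_zero, zero_sub]
      rcases Nat.lt_or_ge i 3 with hi6 | hi6
      · exact Submodule.smul_mem _ _ (anti hi6 e3)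
      · have h5 : Submodule.span K {e 0, e 1} ≤ LinearMap.ker (F.lf w) := by
          apply span_le_ker
          rintro x (rfl | rfl) <;> exact hew _
        have h6 : F.B v w = 0 := mem_kerlf.1 (h5 (anti hi6 hv))
        rw [F.B_smul_right, h6]
        simp
  obtain ⟨Q', hQ', hrQ⟩ := exists_pGroup_root (p := p) (he 1) (hf 0) (by rw [hef, if_neg h01.symm]) X10
  have hmem := hN Q hQ
  refine ⟨Q, hQ, a, ma, S, mS hS1, a, ma, S', mS hS1', hmem ma, hmem (mS hS1), hmem ma, hmem (mS hS1'), r, hN Q' hQ' hrQ,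
    ?_⟩
  rw [← hR, ← hR', ← hz]
  exact hnc

end form

section psu

open Cfsg.Agent.H477.HC.CForm Cfsg.Agent.H464.ExtR3

variable {K : Type} [Field K] [Fintype K] {p : ℕ} [Fact p.Prime] [CharP K p] {q : ℕ}

/-- Hermitian frames -/
theorem frm_herm (hq : Nat.card K = q ^ 2) (k n : ℕ) : ∃ (e f : Fin k → Fin (k + (k + n)) → K)
    (j : (Fin n → K) →ₗ[K] (Fin (k + (k + n)) → K)), Frm (hermF K hq (k + (k + n))) (hermF K hq n) e f j := by
  classical
  have hq0 : q ≠ 0 := by have := two_le_of_card hq; omega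
  obtain ⟨x, y, hx, hy, hxy⟩ := exists_norm_neg_one hq
  obtain ⟨b, hb⟩ : ∃ b : K, b ^ q = (1 + x * y ^ q)⁻¹ :=
    ⟨powHom hq (1 + x * y ^ q)⁻¹, by rw [← powHom_apply hq, powHom_powHom]⟩
  refine ⟨hv K k n 1 x, hv K k n b (b * y), jherm K k n, ⟨?_, ?_, ?_, ?_, ?_, ?_, ?_, ?_, ?_, ?_⟩⟩
  · intro i l
    rw [hermF_B, herm_hv hq0]
    split_ifs
    · rw [one_pow, one_mul, ← pow_succ', hx]
    · rfl
  · intro i l
    rw [hermF_B, herm_hv hq0]
    split_ifs
    · have : b * b ^ q + b * y * (b * y) ^ q = b * b ^ q * (1 + y ^ (q + 1)) := by ring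
      rw [this, hy, mul_zero]
    · rfl
  · intro i l
    rw [hermF_B, herm_hv hq0]
    split_ifs
    · have : 1 * b ^ q + x * (b * y) ^ q = b ^ q * (1 + x * y ^ q) := by ring
      rw [this, hb, inv_mul_cancel₀ hxy]
    · rfl
  · intro i
    rw [hermF_Q, herm_hv hq0, if_pos rfl, one_pow, one_mul, ← pow_succ', hx]
  · intro i
    rw [hermF_Q, herm_hv hq0, if_pos rfl]
    have : b * b ^ q + b * y * (b * y) ^ q = b * b ^ q * (1 + y ^ (q + 1)) := by ring
    rw [this, hy, mul_zero]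
  · intro x y
    simp [hermForm, Fin.sum_univ_add]
  · intro x
    simp [hermForm, Fin.sum_univ_add]
  · intro x i
    simp [hermForm, Fin.sum_univ_add, hv, hq0]
  · intro x i
    simp [hermForm, Fin.sum_univ_add, hv, hq0]
  · simp
    ring

theorem dd_psu {n : ℕ} (hF : Fintype.card K = q ^ 2) (hn : 5 ≤ n) : DD p (PSU n K q) := by
  classical
  have hq : Nat.card K = q ^ 2 := by rw [Nat.card_eq_fintype_card, hF]
  have hq0 : q ≠ 0 := by have := two_le_of_card hq; omega
  obtain ⟨m, rfl⟩ : ∃ m, n = 2 + (2 + (m + 1)) := ⟨n - 5, by omega⟩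
  obtain ⟨e, f, j, h⟩ := frm_herm hq 2 (m + 1)
  obtain ⟨l, hl⟩ := Cfsg.Agent.LieClassical.HermBasic.exists_not_fixed hF
  have hw : (hermF K hq (m + 1)).B (Pi.single 0 1) (Pi.single 0 1) = 1 := by
    rw [hermF_B, Cfsg.Agent.LieClassical.HermBasic.herm_single_left]
    simp
  have h1 : DDCN p (hermF K hq (2 + (2 + (m + 1)))).iso (suN hq (2 + (2 + (m + 1)))) := by
    refine ddc_two rfl h.hee h.hff h.hef h.hQe h.hQf (w := j (Pi.single 0 1)) (h.hje _) (h.hjf _) ?_ (l := l)
      (by rw [hermF_σ, powHom_apply]; exact hl) (fun l => ?_) _ (fun Q hQ g hg => ?_)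
    · rw [h.hjB, hw]
      exact one_ne_zero
    · obtain ⟨s, hs⟩ := (hermF K hq (2 + (2 + (m + 1)))).Q_range (l • j (Pi.single 0 1))
      have hs' : s + s ^ q = - (hermF K hq (2 + (2 + (m + 1)))).Q (l • j (Pi.single 0 1)) := hs
      refine ⟨s, ?_, fun x => ?_⟩
      · have e1 : (hermF K hq (2 + (2 + (m + 1)))).B (l • j (Pi.single 0 1)) (l • j (Pi.single 0 1)) =
          (hermF K hq (2 + (2 + (m + 1)))).Q (l • j (Pi.single 0 1)) := rfl
        rw [e1, hermF_ε, hermF_σ, powHom_apply, inv_one, one_mul, one_mul, hs']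
        ring
      · have e2 : (hermF K hq (2 + (2 + (m + 1)))).T ((hermF K hq (2 + (2 + (m + 1)))).σ s *
            (x * (hermF K hq (2 + (2 + (m + 1)))).σ x)) = (s + s ^ q) * (x * x ^ q) := by
          rw [hermF_T, hermF_σ, powHom_apply, powHom_apply, ← powHom_apply hq (s ^ q * (x * x ^ q)), map_mul, map_mul]
          rw [← powHom_apply hq s, ← powHom_apply hq x, powHom_powHom, powHom_powHom]
          ring
        rw [e2, hs', hermF_σ, powHom_apply]
        ring
    · rw [mem_suN]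
      obtain ⟨k, hk⟩ := hQ ⟨g, hg⟩
      have hk' : g ^ p ^ k = 1 := congrArg Subtype.val hk
      have h3 : (LinearMap.det ((g : (Fin (2 + (2 + (m + 1))) → K) ≃ₗ[K] (Fin (2 + (2 + (m + 1))) → K)) :
          (Fin (2 + (2 + (m + 1))) → K) →ₗ[K] (Fin (2 + (2 + (m + 1))) → K))) ^ p ^ k = 1 := by
        rw [← map_pow]
        have h4 : ∀ t : ℕ, ((g : (Fin (2 + (2 + (m + 1))) → K) ≃ₗ[K] (Fin (2 + (2 + (m + 1))) → K)) :
          (Fin (2 + (2 + (m + 1))) → K) →ₗ[K] (Fin (2 + (2 + (m + 1))) → K)) ^ t =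
          (((g ^ t : (hermF K hq (2 + (2 + (m + 1)))).iso) : (Fin (2 + (2 + (m + 1))) → K) ≃ₗ[K]
            (Fin (2 + (2 + (m + 1))) → K)) : (Fin (2 + (2 + (m + 1))) → K) →ₗ[K] (Fin (2 + (2 + (m + 1))) → K)) := by
          intro t
          induction t with
          | zero => rfl
          | succ t ih => rw [pow_succ, ih, pow_succ]; rfl
        rw [h4, hk']
        exact LinearMap.det_id
      have h5 : (LinearMap.det ((g : (Fin (2 + (2 + (m + 1))) → K) ≃ₗ[K] (Fin (2 + (2 + (m + 1))) → K)) :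
          (Fin (2 + (2 + (m + 1))) → K) →ₗ[K] (Fin (2 + (2 + (m + 1))) → K)) - 1) ^ p ^ k = 0 := by
        rw [sub_pow_char_pow, h3, one_pow, sub_self]
      exact sub_eq_zero.1 ((pow_eq_zero_iff (pow_ne_zero _ (Fact.out : p.Prime).ne_zero)).1 h5)
  exact (h1.ddc.of_equiv (eSUN hq (2 + (2 + (m + 1)))).symm).quot

end psu

section psl

variable {K : Type u} [Field K] {p : ℕ} [Fact p.Prime] [CharP K p] {n : ℕ}

/-- the standard flag -/
def stdFlag (K : Type u) [Field K] (n : ℕ) (m : ℕ) : Submodule K (Fin n → K) where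
  carrier := {v | ∀ k : Fin n, n ≤ k + m → v k = 0}
  zero_mem' := fun _ _ => rfl
  add_mem' := fun ha hb k hk => by rw [Pi.add_apply, ha k hk, hb k hk, add_zero]
  smul_mem' := fun c a ha k hk => by rw [Pi.smul_apply, ha k hk, smul_zero]

theorem stdFlag_anti (i : ℕ) : stdFlag K n (i + 1) ≤ stdFlag K n i := fun _ hv k hk => hv k (by omega)

/-- the action of a transvection -/
theorem trans_apply {i j : Fin n} (hij : i ≠ j) (v : Fin n → K) :
    Matrix.SpecialLinearGroup.toLin' (Matrix.SpecialLinearGroup.transvection hij (1 : K)) v = v + Pi.single i (v j) := by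
  rw [Matrix.SpecialLinearGroup.toLin'_apply]
  change Matrix.toLin' (Matrix.transvection i j (1 : K)) v = _
  rw [Matrix.toLin'_apply, Matrix.transvection, Matrix.add_mulVec, Matrix.one_mulVec, Matrix.single_mulVec, one_mul]
  rfl

theorem trans_comm {i j l : Fin n} (hij : i ≠ j) (hil : i ≠ l) (hlj : l ≠ j) :
    ⁅Matrix.SpecialLinearGroup.transvection hil (1 : K), Matrix.SpecialLinearGroup.transvection hlj (1 : K)⁆ =
      Matrix.SpecialLinearGroup.transvection hij (1 : K) := by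
  have key : Matrix.SpecialLinearGroup.transvection hil (1 : K) * Matrix.SpecialLinearGroup.transvection hlj (1 : K) =
      Matrix.SpecialLinearGroup.transvection hij (1 : K) * Matrix.SpecialLinearGroup.transvection hlj (1 : K) *
        Matrix.SpecialLinearGroup.transvection hil (1 : K) := by
    apply Matrix.SpecialLinearGroup.toLin'_injective
    apply LinearEquiv.ext
    intro v
    rw [map_mul, map_mul, map_mul, LinearEquiv.mul_apply, LinearEquiv.mul_apply, LinearEquiv.mul_apply]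
    simp only [trans_apply, Pi.add_apply, Pi.single_eq_same, Pi.single_eq_of_ne hij.symm, Pi.single_eq_of_ne hlj.symm,
      add_zero, Pi.single_add]
    abel
  rw [commutatorElement_def, mul_inv_eq_iff_eq_mul, mul_inv_eq_iff_eq_mul, key]

theorem dd_psl (hn : 5 ≤ n) : DD p (Matrix.ProjectiveSpecialLinearGroup (Fin n) K) := by
  obtain ⟨m, rfl⟩ : ∃ m, n = m + 5 := ⟨n - 5, by omega⟩
  obtain ⟨i0, h0⟩ : ∃ i : Fin (m + 5), (i : ℕ) = 0 := ⟨⟨0, by omega⟩, rfl⟩
  obtain ⟨i1, h1⟩ : ∃ i : Fin (m + 5), (i : ℕ) = 1 := ⟨⟨1, by omega⟩, rfl⟩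
  obtain ⟨i2, h2⟩ : ∃ i : Fin (m + 5), (i : ℕ) = 2 := ⟨⟨2, by omega⟩, rfl⟩
  obtain ⟨i3, h3⟩ : ∃ i : Fin (m + 5), (i : ℕ) = 3 := ⟨⟨3, by omega⟩, rfl⟩
  obtain ⟨i4, h4⟩ : ∃ i : Fin (m + 5), (i : ℕ) = 4 := ⟨⟨4, by omega⟩, rfl⟩
  have n01 : i0 ≠ i1 := fun h => by rw [h] at h0; omega
  have n12 : i1 ≠ i2 := fun h => by rw [h] at h1; omega
  have n23 : i2 ≠ i3 := fun h => by rw [h] at h2; omega
  have n34 : i3 ≠ i4 := fun h => by rw [h] at h3; omega
  have n02 : i0 ≠ i2 := fun h => by rw [h] at h0; omega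
  have n24 : i2 ≠ i4 := fun h => by rw [h] at h2; omega
  have n04 : i0 ≠ i4 := fun h => by rw [h] at h0; omega
  have n14 : i1 ≠ i4 := fun h => by rw [h] at h1; omega
  have hQ : IsPGroup p ((flagU (stdFlag K (m + 5)) stdFlag_anti).comap
      (Matrix.SpecialLinearGroup.toLin' (n := Fin (m + 5)) (R := K))) := by
    refine (isPGroup_flagU ?_ (n := m + 5) ?_).comap_of_injective _ Matrix.SpecialLinearGroup.toLin'_injective
    · rw [eq_top_iff]
      intro v _ k hk
      exact absurd hk (by have := k.2; omega)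
    · rw [eq_bot_iff]
      intro v hv
      rw [Submodule.mem_bot]
      funext k
      exact hv k (by omega)
  have mem : ∀ {i j : Fin (m + 5)} (hij : i ≠ j), (i : ℕ) < j → Matrix.SpecialLinearGroup.transvection hij (1 : K) ∈
      (flagU (stdFlag K (m + 5)) stdFlag_anti).comap
        (Matrix.SpecialLinearGroup.toLin' (n := Fin (m + 5)) (R := K)) := by
    intro i j hij hlt
    refine mem_flagU (hV := stdFlag_anti) fun t v hv => ?_
    rw [trans_apply, add_sub_cancel_left]
    intro k hk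
    by_cases hki : k = i
    · subst hki
      rw [Pi.single_eq_same]
      exact hv j (by omega)
    · rw [Pi.single_eq_of_ne hki]
  refine DDC.quot ⟨_, hQ, _, mem n01 (by omega), _, mem n12 (by omega), _, mem n23 (by omega), _, mem n34 (by omega),
    Matrix.SpecialLinearGroup.transvection n01.symm (1 : K), ?_⟩
  rw [trans_comm n02, trans_comm n24, trans_comm n04]
  intro h
  have h5 := congrArg (fun g => Matrix.SpecialLinearGroup.toLin' g (Pi.single i4 (1 : K))) h
  simp only [map_mul, LinearEquiv.mul_apply, trans_apply, Pi.add_apply, Pi.single_eq_same, Pi.single_eq_of_ne n04,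
    Pi.single_eq_of_ne n14, Pi.single_eq_of_ne n04.symm, Pi.single_zero, add_zero, zero_add] at h5
  have h6 := congrFun h5 i1
  simp only [Pi.add_apply, Pi.single_eq_same, Pi.single_eq_of_ne n14, Pi.single_eq_of_ne n01.symm, zero_add] at h6
  exact one_ne_zero h6

end psl

end Cfsg.Agent.H652.HT
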